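import Cfsg.Agent.H602.B0R.Aut
import Cfsg.Agent.H145.BR.RowZ
import Cfsg.Agent.H256.B0R.Loc
import Cfsg.Agent.Blocks.ExistsModular

/-!
# From the engine to the row (helper256)

`FrobAll G` : the Frobenius lemma for all odd primes `p` with `|G|_p = p`.
-/

set_option autoImplicit false

open Subgroup

namespace Cfsg.Agent.H256.B0R

open Cfsg Cfsg.Agent.H602.B0R Cfsg.Agent.H145.BR

universe u

/-- the Frobenius lemma for `G` -/
def FrobAll (G : Type u) [Group G] : Prop :=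
  ∀ (p : ℕ) (M : Ideal AlgInt), p.Prime → p ≠ 2 → p ∣ Nat.card G → ¬ p ^ 2 ∣ Nat.card G → IsPModular p M → Frob p M G

variable {G : Type u} [Group G] [Finite G]

theorem card_sylow {p : ℕ} [hp : Fact p.Prime] (h1 : p ∣ Nat.card G) (h2 : ¬ p ^ 2 ∣ Nat.card G) (P : Sylow p G) :
    Nat.card P = p := by
  rw [P.card_eq_multiplicity]
  have h3 : (Nat.card G).factorization p = 1 := by
    have h4 : 1 ≤ (Nat.card G).factorization p :=
      (hp.out.dvd_iff_one_le_factorization Nat.card_pos.ne').1 h1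
    by_contra h5
    exact h2 ((hp.out.pow_dvd_iff_le_factorization Nat.card_pos.ne').2 (by omega))
  rw [h3, pow_one]

/-- the condition on `e` when `q` is a primitive root -/
theorem e_auto {p q : ℕ} (hp : p.Prime) (h : ∀ e < p, e ∣ p - 1 → e = p - 1 ∨ q ^ e % p ≠ 1)
    {P : Subgroup G} (hP : Nat.card P = p) :
    (centralizer (P : Set G)).relIndex (normalizer (P : Set G)) = p - 1 ∨
      ¬ q ^ (centralizer (P : Set G)).relIndex (normalizer (P : Set G)) ≡ 1 [MOD p] := by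
  have h1 := SmallSimple.SylowPrimeCount.relIndex_dvd_pred hp hP
  have h2 := Nat.le_of_dvd (by have := hp.one_lt; omega) h1
  rcases h _ (by have := hp.one_lt; omega) h1 with h3 | h3
  · exact Or.inl h3
  · refine Or.inr fun h4 => h3 ?_
    have h5 : q ^ (centralizer (P : Set G)).relIndex (normalizer (P : Set G)) % p = 1 % p := h4
    rwa [Nat.mod_eq_of_lt hp.one_lt] at h5

/-- the condition on `e` when a divisor `d` of `e` is known -/
theorem e_dvd {p q d : ℕ} (hp : p.Prime) (h : ∀ e < p, e ∣ p - 1 → d ∣ e → e = p - 1 ∨ q ^ e % p ≠ 1)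
    {P : Subgroup G} (hP : Nat.card P = p) (hd : d ∣ (centralizer (P : Set G)).relIndex (normalizer (P : Set G))) :
    (centralizer (P : Set G)).relIndex (normalizer (P : Set G)) = p - 1 ∨
      ¬ q ^ (centralizer (P : Set G)).relIndex (normalizer (P : Set G)) ≡ 1 [MOD p] := by
  have h1 := SmallSimple.SylowPrimeCount.relIndex_dvd_pred hp hP
  have h2 := Nat.le_of_dvd (by have := hp.one_lt; omega) h1
  rcases h _ (by have := hp.one_lt; omega) h1 hd with h3 | h3
  · exact Or.inl h3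
  · refine Or.inr fun h4 => h3 ?_
    have h5 : q ^ (centralizer (P : Set G)).relIndex (normalizer (P : Set G)) % p = 1 % p := h4
    rwa [Nat.mod_eq_of_lt hp.one_lt] at h5

/-- the numerical data of a pair -/
structure PD (G : Type u) [Group G] (p q : ℕ) : Prop where
  hp : p.Prime
  hq : q.Prime
  hpq : p ≠ q
  hp2 : p ≠ 2
  hq2 : q ≠ 2
  cp : p ∣ Nat.card G
  cp2 : ¬ p ^ 2 ∣ Nat.card G
  cq : q ∣ Nat.card G
  cq2 : ¬ q ^ 2 ∣ Nat.card G
  ep : ∀ P : Subgroup G, Nat.card P = p → (centralizer (P : Set G)).relIndex (normalizer (P : Set G)) = p - 1 ∨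
      ¬ q ^ (centralizer (P : Set G)).relIndex (normalizer (P : Set G)) ≡ 1 [MOD p]
  eq : ∀ P : Subgroup G, Nat.card P = q → (centralizer (P : Set G)).relIndex (normalizer (P : Set G)) = q - 1 ∨
      ¬ p ^ (centralizer (P : Set G)).relIndex (normalizer (P : Set G)) ≡ 1 [MOD q]
  no : NAd G p q
  gen : ∀ g : G, Gen0 (orderOf g) p q

theorem PD.pair {p q : ℕ} (h : PD G p q) (F : FrobAll G) {M M' : Ideal AlgInt} (hM : IsPModular p M)
    (hM' : IsPModular q M') : Pair G p q M M' := by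
  have := Fact.mk h.hp
  have := Fact.mk h.hq
  exact
  { hp := h.hp, hq := h.hq, hpq := h.hpq, hp2 := h.hp2, hq2 := h.hq2, hM := hM, hM' := hM'
    sylp := fun P => ⟨card_sylow h.cp h.cp2 P, h.ep P (card_sylow h.cp h.cp2 P)⟩
    sylq := fun P => ⟨card_sylow h.cq h.cq2 P, h.eq P (card_sylow h.cq h.cq2 P)⟩
    hno := h.no.ne
    frobp := F p M h.hp h.hp2 h.cp h.cp2 hM
    frobq := F q M' h.hq h.hq2 h.cq h.cq2 hM' }

/-- **The rows for `p` and `q`.** -/
theorem PD.rowInt {p q : ℕ} (h : PD G p q) (F : FrobAll G)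
    (hout : ∀ a : MulAut G, ∃ c : ℕ, a ^ (2 ^ c) ∈ (MulAut.conj (G := G)).range) : RowInt p G ∧ RowInt q G := by
  have := Fact.mk h.hp
  have := Fact.mk h.hq
  obtain ⟨P⟩ : Nonempty (Sylow p G) := inferInstance
  obtain ⟨Q⟩ : Nonempty (Sylow q G) := inferInstance
  constructor
  · intro M hM
    obtain ⟨M', hM'⟩ := Cfsg.Agent.Blocks.ExistsModular.exists_isPModular h.hq
    obtain ⟨χ, h1, -, h2, h3, -, h4, h5⟩ := (h.pair F hM hM').outA_of_gen0 h.gen hout
    exact ⟨χ, h1, h2, h3.not_dvd P (card_sylow h.cp h.cp2 P), h4, h5⟩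
  · intro M' hM'
    obtain ⟨M, hM⟩ := Cfsg.Agent.Blocks.ExistsModular.exists_isPModular h.hp
    obtain ⟨χ, -, h1, h2, -, h3, h4, h5⟩ := (h.pair F hM hM').outA_of_gen0 h.gen hout
    exact ⟨χ, h1, h2, h3.not_dvd Q (card_sylow h.cq h.cq2 Q), h4, h5⟩

omit [Finite G] in
theorem hout_of_inner (h : ∀ α : MulAut G, ∃ g : G, ∀ s : G, α s = g * s * g⁻¹) (a : MulAut G) :
    ∃ c : ℕ, a ^ (2 ^ c) ∈ (MulAut.conj (G := G)).range := by
  obtain ⟨g, hg⟩ := h a
  refine ⟨0, g, ?_⟩
  rw [pow_zero, pow_one]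
  ext s
  rw [MulAut.conj_apply, hg]

end Cfsg.Agent.H256.B0R
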