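import Cfsg.Agent.H256.B0R.BFacts
import Cfsg.Agent.H256.B0R.RowOf
import Cfsg.Agent.H494.B0R.Inst
import Cfsg.Agent.H657.Frob.Main
import Cfsg.Agent.H932.BR.RowCongr

/-!
# The rows of the Baby Monster, `|B|_p = p` (helper256)
-/

set_option autoImplicit false
set_option maxRecDepth 100000

open Subgroup

namespace Cfsg.Agent.H256.B0R.B

open Cfsg Cfsg.Agent.H256.B0R Cfsg.Agent.H602.B0R Cfsg.Agent.H145.BR

universe u

theorem card' : Nat.card G = 2 ^ 41 * 3 ^ 13 * 5 ^ 6 * 7 ^ 2 * 11 * 13 * 17 * 19 * 23 * 31 * 47 := by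
  rw [card]; norm_num

theorem mem_of {l : List ℕ} (l' : List ℕ) (h : ∀ d ∈ l', d ∈ l) (hl : ∀ b ∈ l, ∀ g : G, ¬ b ∣ orderOf g) (g : G) :
    ∀ d ∈ l', ¬ d ∣ orderOf g := fun d hd => hl d (h d hd) g

def b1113 : List ℕ := [9 * 7 * 19, 9 * 7 * 31, 9 * 19 * 31, 7 * 19 * 31]
def b1117 : List ℕ := [9 * 7 * 13, 9 * 7 * 19, 9 * 7 * 31, 9 * 13 * 19, 9 * 19 * 31, 7 * 13 * 19, 7 * 19 * 31, 13 * 31]
def b1331 : List ℕ := [9 * 7 * 19]
def b1923 : List ℕ := [9 * 7 * 13, 9 * 7 * 31, 9 * 13 * 31, 7 * 13 * 31, 25 * 11 * 31]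
def b1347 : List ℕ := [9 * 7 * 19, 9 * 7 * 31, 9 * 19 * 31, 7 * 19 * 31, 25 * 11]

theorem no1113 : ∀ b ∈ b1113, ∀ g : G, ¬ b ∣ orderOf g := by
  simp only [b1113, List.forall_mem_cons, List.not_mem_nil, false_imp_iff, implies_true, and_true]
  exact ⟨n_7_19.not_dvd (by norm_num) (by norm_num), n_7_31.not_dvd (by norm_num) (by norm_num),
    n_3_19.not_dvd (by norm_num) (by norm_num), n_7_19.not_dvd (by norm_num) (by norm_num)⟩

theorem no1117 : ∀ b ∈ b1117, ∀ g : G, ¬ b ∣ orderOf g := by
  simp only [b1117, List.forall_mem_cons, List.not_mem_nil, false_imp_iff, implies_true, and_true]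
  exact ⟨n_7_13.not_dvd (by norm_num) (by norm_num), n_7_19.not_dvd (by norm_num) (by norm_num),
    n_7_31.not_dvd (by norm_num) (by norm_num), n_3_19.not_dvd (by norm_num) (by norm_num),
    n_3_19.not_dvd (by norm_num) (by norm_num), n_7_19.not_dvd (by norm_num) (by norm_num),
    n_7_19.not_dvd (by norm_num) (by norm_num), n_13_31.not_dvd (by norm_num) (by norm_num)⟩

theorem no1331 : ∀ b ∈ b1331, ∀ g : G, ¬ b ∣ orderOf g := by
  simp only [b1331, List.forall_mem_cons, List.not_mem_nil, false_imp_iff, implies_true, and_true]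
  exact n_7_19.not_dvd (by norm_num) (by norm_num)

theorem no1923 : ∀ b ∈ b1923, ∀ g : G, ¬ b ∣ orderOf g := by
  simp only [b1923, List.forall_mem_cons, List.not_mem_nil, false_imp_iff, implies_true, and_true]
  refine ⟨n_7_13.not_dvd (by norm_num) (by norm_num), n_7_31.not_dvd (by norm_num) (by norm_num),
    n_3_31.not_dvd (by norm_num) (by norm_num), n_7_13.not_dvd (by norm_num) (by norm_num), fun g hg => ?_⟩
  exact n_11 (m := 25 * 31) (by norm_num) (by norm_num) g (by rw [show 11 * (25 * 31) = 25 * 11 * 31 by norm_num]; exact hg)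

theorem no1347 : ∀ b ∈ b1347, ∀ g : G, ¬ b ∣ orderOf g := by
  simp only [b1347, List.forall_mem_cons, List.not_mem_nil, false_imp_iff, implies_true, and_true]
  refine ⟨n_7_19.not_dvd (by norm_num) (by norm_num), n_7_31.not_dvd (by norm_num) (by norm_num),
    n_3_19.not_dvd (by norm_num) (by norm_num), n_7_19.not_dvd (by norm_num) (by norm_num), fun g hg => ?_⟩
  exact n_11 (m := 25) (by norm_num) (by norm_num) g (by rw [show 11 * 25 = 25 * 11 by norm_num]; exact hg)

theorem pd1113 : PD G 11 13 where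
  hp := by norm_num
  hq := by norm_num
  hpq := by norm_num
  hp2 := by norm_num
  hq2 := by norm_num
  cp := by rw [card]; norm_num
  cp2 := by rw [card]; norm_num
  cq := by rw [card]; norm_num
  cq2 := by rw [card]; norm_num
  ep := fun P hP => e_auto (by norm_num) (by decide) hP
  eq := fun P hP => e_auto (by norm_num) (by decide) hP
  no := n_11_13
  gen := H494.B0R.B_11_13 card' (mem_of _ (by decide) no1113)

theorem pd1117 : PD G 11 17 where
  hp := by norm_num
  hq := by norm_num
  hpq := by norm_num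
  hp2 := by norm_num
  hq2 := by norm_num
  cp := by rw [card]; norm_num
  cp2 := by rw [card]; norm_num
  cq := by rw [card]; norm_num
  cq2 := by rw [card]; norm_num
  ep := fun P hP => e_auto (by norm_num) (by decide) hP
  eq := fun P hP => e_auto (by norm_num) (by decide) hP
  no := n_11_17
  gen := H494.B0R.B_11_17 card' (mem_of _ (by decide) no1117)

theorem pd1331 : PD G 13 31 where
  hp := by norm_num
  hq := by norm_num
  hpq := by norm_num
  hp2 := by norm_num
  hq2 := by norm_num
  cp := by rw [card]; norm_num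
  cp2 := by rw [card]; norm_num
  cq := by rw [card]; norm_num
  cq2 := by rw [card]; norm_num
  ep := fun P hP => Or.inl (e13 P hP)
  eq := fun P hP => e_auto (by norm_num) (by decide) hP
  no := n_13_31
  gen := H494.B0R.B_13_31 card' (mem_of _ (by decide) no1331)

theorem pd1923 : PD G 19 23 where
  hp := by norm_num
  hq := by norm_num
  hpq := by norm_num
  hp2 := by norm_num
  hq2 := by norm_num
  cp := by rw [card]; norm_num
  cp2 := by rw [card]; norm_num
  cq := by rw [card]; norm_num
  cq2 := by rw [card]; norm_num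
  ep := fun P hP => e_dvd (d := 2) (by norm_num) (by decide) hP (e19 P hP)
  eq := fun P hP => e_auto (by norm_num) (by decide) hP
  no := n_19_23
  gen := H494.B0R.B_19_23 card' (mem_of _ (by decide) no1923)

theorem pd1347 : PD G 13 47 where
  hp := by norm_num
  hq := by norm_num
  hpq := by norm_num
  hp2 := by norm_num
  hq2 := by norm_num
  cp := by rw [card]; norm_num
  cp2 := by rw [card]; norm_num
  cq := by rw [card]; norm_num
  cq2 := by rw [card]; norm_num
  ep := fun P hP => Or.inl (e13 P hP)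
  eq := fun P hP => e_auto (by norm_num) (by decide +kernel) hP
  no := (n_47 (by norm_num) (by norm_num)).symm
  gen := H494.B0R.B_13_47 card' (mem_of _ (by decide) no1347)

/-- the Frobenius lemma -/
theorem frobAll : FrobAll G := fun _ _ _ hp2 h1 h2 hM => H657.Frob.frob hM hp2 h1 h2

theorem hout : ∀ a : MulAut G, ∃ c : ℕ, a ^ (2 ^ c) ∈ (MulAut.conj (G := G)).range :=
  hout_of_inner (H979.BTrans.inner_b isoB)

/-- **The rows of the Baby Monster.** -/
theorem rowInt {p : ℕ} (hp : p ∈ [11, 13, 17, 19, 23, 31, 47]) : RowInt p G := by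
  simp only [List.mem_cons, List.not_mem_nil, or_false] at hp
  rcases hp with rfl | rfl | rfl | rfl | rfl | rfl | rfl
  · exact (pd1113.rowInt frobAll hout).1
  · exact (pd1113.rowInt frobAll hout).2
  · exact (pd1117.rowInt frobAll hout).2
  · exact (pd1923.rowInt frobAll hout).1
  · exact (pd1923.rowInt frobAll hout).2
  · exact (pd1331.rowInt frobAll hout).2
  · exact (pd1347.rowInt frobAll hout).2

/-- **The rows of the Baby Monster.** -/
theorem rowInt_b {S : Type u} [Group S] (h : Spor.IsoB S) {p : ℕ} (hp : p ∈ [11, 13, 17, 19, 23, 31, 47]) :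
    RowInt p S := by
  obtain ⟨e⟩ := h
  exact H932.BR.RowInt.congr e (rowInt hp)

/-- **The rows of the Baby Monster.** -/
theorem rowZ_b {S : Type u} [Group S] (h : Spor.IsoB S) {p : ℕ} (hp : p ∈ [11, 13, 17, 19, 23, 31, 47]) :
    RowZ p S := (rowInt_b h hp).rowZ

end Cfsg.Agent.H256.B0R.B
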