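import Cfsg.Agent.H256.B0R.Loc
import Cfsg.Agent.H436.RealM
import Cfsg.Agent.H241.NHMonD

/-!
# The Monster: divisors of the indices `|N(P) : C(P)|`, `|P| = 19, 29, 31` (helper256)

`e29 : 7 ∣ e₂₉`, `e29' : 2 ∣ e₂₉`, `e31 : 3 ∣ e₃₁`, `e19 : 2 ∣ e₁₉`.
-/

set_option autoImplicit false
set_option maxRecDepth 100000

open Subgroup

namespace Cfsg.Agent.H256.B0R

universe u

section gen

variable {G : Type u} [Group G] [Finite G]

theorem dvd_relIndex_of {q k : ℕ} (hq : q.Prime) (hq2 : ¬ q ^ 2 ∣ Nat.card G)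
    (h : ∃ x c : G, orderOf x = q ∧ c * x * c⁻¹ = x ^ k) (P : Subgroup G) (hP : Nat.card P = q) :
    orderOf (k : ZMod q) ∣ (centralizer (P : Set G)).relIndex (normalizer (P : Set G)) := by
  obtain ⟨x, c, hx, hc⟩ := h
  have hF : Fact q.Prime := ⟨hq⟩
  obtain ⟨y, hy⟩ := exists_prime_orderOf_dvd_card' (G := P) q (by rw [hP])
  have hy' : orderOf (y : G) = q := by rw [Subgroup.orderOf_coe, hy]
  obtain ⟨g, hg⟩ := conj_of_not_sq hq hq2 hy' hx
  have hxP : g * x * g⁻¹ ∈ P := by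
    have h1 : zpowers (y : G) ≤ P := by rw [zpowers_le]; exact y.2
    exact h1 hg
  refine orderOf_dvd_relIndex hq P hP hxP ?_ (g := g * c * g⁻¹) ?_
  · intro h1
    have h2 : x = 1 := conj_eq_one_iff.1 h1
    rw [h2, orderOf_one] at hx
    exact hq.one_lt.ne hx
  · calc g * c * g⁻¹ * (g * x * g⁻¹) * (g * c * g⁻¹)⁻¹ = g * (c * x * c⁻¹) * g⁻¹ := by group
      _ = (g * x * g⁻¹) ^ k := by rw [hc, conj_pow]

theorem even_relIndex_of {q : ℕ} (hq : q.Prime) (hq2 : ¬ q ^ 2 ∣ Nat.card G)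
    (h : ∃ x : G, q ∣ orderOf x ∧ IsConj x x⁻¹) (hk : orderOf ((q - 1 : ℕ) : ZMod q) = 2) (P : Subgroup G)
    (hP : Nat.card P = q) : 2 ∣ (centralizer (P : Set G)).relIndex (normalizer (P : Set G)) := by
  obtain ⟨x, hx, hc⟩ := h
  obtain ⟨i, hi⟩ := exists_pow_order hx
  obtain ⟨c, hc⟩ := isConj_iff.1 hc
  rw [← hk]
  refine dvd_relIndex_of hq hq2 ⟨x ^ i, c, hi, ?_⟩ P hP
  rw [← conj_pow, hc, inv_pow, inv_eq_iff_mul_eq_one, ← pow_succ']
  exact orderOf_dvd_iff_pow_eq_one.1 (by rw [hi, Nat.sub_add_cancel hq.one_lt.le])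

theorem dvd_relIndex_of_frk {p q : ℕ} (hp : p.Prime) (hq : q.Prime) (hq2 : ¬ q ^ 2 ∣ Nat.card G)
    (h : H241.NH.Frk p q G) (P : Subgroup G) (hP : Nat.card P = q) :
    p ∣ (centralizer (P : Set G)).relIndex (normalizer (P : Set G)) := by
  obtain ⟨u, y, ⟨k, hk⟩, hy, ⟨m, hm⟩, hne⟩ := h
  have h1 := dvd_relIndex_of hq hq2 ⟨y, u, hy, hm⟩ P hP
  refine dvd_trans ?_ h1
  have h2 : orderOf (m : ZMod q) ∣ p ^ k := by
    apply orderOf_dvd_of_pow_eq_one
    have h3 := conj_pow_pow hm (p ^ k)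
    rw [← hk, pow_orderOf_eq_one, one_mul, inv_one, mul_one, hk] at h3
    have h4 : y ^ (m ^ (p ^ k)) = y ^ 1 := by rw [pow_one]; exact h3.symm
    rw [pow_eq_pow_iff_modEq, hy, ← ZMod.natCast_eq_natCast_iff] at h4
    push_cast at h4
    exact h4
  obtain ⟨j, -, hj⟩ := (Nat.dvd_prime_pow hp).1 h2
  rw [hj]
  rcases Nat.eq_zero_or_pos j with h3 | h3
  · exfalso
    rw [h3, pow_zero, orderOf_eq_one_iff] at hj
    apply hne
    have h4 : y ^ m = y := by
      conv_rhs => rw [← pow_one y]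
      rw [pow_eq_pow_iff_modEq, hy, ← ZMod.natCast_eq_natCast_iff]
      push_cast
      exact hj
    rw [h4] at hm
    exact mul_inv_eq_iff_eq_mul.1 hm
  · exact dvd_pow_self p h3.ne'

end gen

namespace Mon

open Cfsg Cfsg.Agent.H241.NH Cfsg.Agent.H241.Mon
open Cfsg.Agent.R08.FiTwentyFour (L finite_Fi24)
open Cfsg.Agent.Lib.PermNet Cfsg.Agent.Lib.PermNetPt Cfsg.Agent.Fischer.Fi24RepDef Cfsg.Agent.Fischer.Fi24Rep
open Cfsg.Agent.KFacts.FiTF.Pts Cfsg.Agent.KFacts.FiTF.FixMask Cfsg.Agent.H843.Fi24N Cfsg.Agent.H843.Pat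
open Cfsg.Agent.H353.NHFiTF
open Cfsg.Spor (Fi24)
open Cfsg.Spor.Fi24 (Gen)

theorem fr_7_29 : Fr 7 29 Spor.Fi24' := by
  have := finite_Fi24
  have hFp : Fact (Nat.Prime 7) := ⟨by norm_num⟩
  obtain ⟨n, hn⟩ := exists_prime_orderOf_dvd_card' (G := normalizer (zpowers H843.D29.D.x : Set Fi24)) 7
    (by rw [H843.D29.main.1]; norm_num)
  have hx : H843.D29.D.x ∈ commutator Fi24 := mem_commutator (by rw [H843.D29.order]; decide)
  have hno : orderOf (n : Fi24) = 7 := by rw [Subgroup.orderOf_coe, hn]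
  have hg : (n : Fi24) ∈ commutator Fi24 := mem_commutator (by rw [hno]; decide)
  obtain ⟨i, hi⟩ := (Submonoid.mem_powers_iff _ _).1
    (mem_powers_iff_mem_zpowers.2 ((mem_normalizer_iff.1 n.2 H843.D29.D.x).1 (mem_zpowers _)))
  refine ⟨⟨_, hg⟩, ⟨_, hx⟩, by rw [Subgroup.orderOf_mk, hno], by rw [Subgroup.orderOf_mk, H843.D29.order],
    ⟨i, Subtype.ext hi.symm⟩, ?_⟩
  intro h
  have h1 : (n : Fi24) * H843.D29.D.x = H843.D29.D.x * n := congrArg Subtype.val h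
  have h2 : (n : Fi24) ∈ centralizer (zpowers H843.D29.D.x : Set Fi24) := H843.Cyc.mem_centralizer_zpowers.2 h1
  have h3 : 7 ∣ Nat.card (centralizer (zpowers H843.D29.D.x : Set Fi24)) := by
    rw [← hno, ← Subgroup.orderOf_mk _ h2]
    exact _root_.orderOf_dvd_natCard _
  rw [H843.D29.main.2] at h3
  norm_num at h3

theorem frk_7_29 : Frk 7 29 Gam := frk_of_fi (by norm_num) (by norm_num) (by norm_num) fr_7_29.frk

/-- **`7 ∣ e₂₉`** -/
theorem e29 (P : Subgroup Gam) (hP : Nat.card P = 29) :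
    7 ∣ (centralizer (P : Set Gam)).relIndex (normalizer (P : Set Gam)) :=
  dvd_relIndex_of_frk (by norm_num) (by norm_num) (by rw [card_G]; norm_num) frk_7_29 P hP

/-- **`2 ∣ e₂₉`** -/
theorem e29' (P : Subgroup Gam) (hP : Nat.card P = 29) :
    2 ∣ (centralizer (P : Set Gam)).relIndex (normalizer (P : Set Gam)) :=
  even_relIndex_of (by norm_num) (by rw [card_G]; norm_num) H436.MonRealAll.twentynine
    (by rw [orderOf_eq_iff (by norm_num)]; decide) P hP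

/-- **`2 ∣ e₁₉`** -/
theorem e19 (P : Subgroup Gam) (hP : Nat.card P = 19) :
    2 ∣ (centralizer (P : Set Gam)).relIndex (normalizer (P : Set Gam)) :=
  even_relIndex_of (by norm_num) (by rw [card_G]; norm_num) H436.MonRealAll.nineteen
    (by rw [orderOf_eq_iff (by norm_num)]; decide) P hP

/-- **`3 ∣ e₃₁`** -/
theorem e31 (P : Subgroup Gam) (hP : Nat.card P = 31) :
    3 ∣ (centralizer (P : Set Gam)).relIndex (normalizer (P : Set Gam)) := by
  have h1 := dvd_relIndex_of (k := 25) (by norm_num) (by rw [card_G]; norm_num) H436.RealM.n31 P hP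
  have h2 : orderOf ((25 : ℕ) : ZMod 31) = 3 := by
    rw [orderOf_eq_iff (by norm_num)]
    decide
  rwa [h2] at h1

end Mon

end Cfsg.Agent.H256.B0R
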