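import Cfsg.Agent.H715.Fpr.MathData
import Cfsg.Agent.H690.B0R.TwoNE
import Cfsg.Agent.H713.B0R.Tool
import Cfsg.Agent.H494.B0R.Inst
import Cfsg.Agent.H968.Rat.RowMathieu
import Cfsg.Agent.H657.Frob.Main
import Cfsg.Agent.H646.BR.Congr

/-!
# Integer valued characters in the principal blocks of the Mathieu groups, `p ≥ 7` (helper256)

`rowZ_m11` (`p = 11`), `rowZ_m12` (`p = 11`), `rowZ_m22` (`p = 7, 11`), `rowZ_m23` (`p = 7, 11, 23`), `rowZ_m24` (`p = 7, 11, 23`).
-/

set_option autoImplicit false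
set_option maxRecDepth 100000

open Subgroup
open scoped Pointwise

namespace Cfsg.Agent.H256.B0R.Math

open Cfsg Cfsg.Agent.H145.BR Cfsg.Agent.H690.B0R Cfsg.Agent.H852.IMMathieu Cfsg.Agent.H701.PBMathieu
open Cfsg.Agent.H690.Spor.RankThree Cfsg.Agent.H715.Fpr.MathData Cfsg.Agent.Characters Cfsg.Agent.Characters.Core

universe u

/-! ### the characters -/

section four

open Cfsg.Agent.H621.AltChar

variable {G : Type u} {Ω : Type*} [Group G] [Finite G] [MulAction G Ω] [Finite Ω] {n : ℕ}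

theorem intV_of_rat {χ : IrrCharacter G} (h : ∀ g : G, ∃ q : ℚ, (χ : G → ℂ) g = q) : IntV χ := fun g =>
  Cfsg.Agent.Characters.GaloisBasic.exists_int_of_rat (isIrr_isCharacter χ.2) g (h g)

/-- Two integer valued characters of a `4`-transitive group. -/
theorem exists_four_int (hn : Nat.card Ω = n) (h5 : 5 ≤ n) (h4 : MulAction.IsMultiplyPretransitive G Ω 4) {d : ℕ}
    (hd : d = n - 1 ∨ d * 2 = n * (n - 3)) : ∃ χ : IrrCharacter G, charDegree (χ : G → ℂ) = d ∧ IntV χ := by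
  have := Fintype.ofFinite G
  obtain ⟨m, rfl⟩ : ∃ m, n = m + 5 := ⟨n - 5, by omega⟩
  rcases hd with hd | hd
  · refine ⟨⟨_, irr_one (G := G) (Ω := Ω) (by omega) h4⟩, ?_, intV_of_rat fun g => ⟨((nf Ω g : ℕ) : ℚ) - 1, ?_⟩⟩
    · apply Cfsg.Agent.Blocks.Basic.charDegree_of_eq
      show ((nf Ω (1 : G) : ℕ) : ℂ) - 1 = _
      rw [nf_one, hn, hd]
      rw [show m + 5 - 1 = m + 4 by omega]
      push_cast
      ring
    · show ((nf Ω g : ℕ) : ℂ) - 1 = _
      push_cast
      rfl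
  · refine ⟨⟨_, irr_a (G := G) (Ω := Ω) (by omega) h4⟩, ?_, intV_of_rat fun g =>
      ⟨(((nf Ω g : ℕ) : ℚ) ^ 2 - 3 * ((nf Ω g : ℕ) : ℚ) + ((nu Ω g : ℕ) : ℚ)) / 2, ?_⟩⟩
    · apply Cfsg.Agent.Blocks.Basic.charDegree_of_eq
      show (((nf Ω (1 : G) : ℕ) : ℂ) ^ 2 - 3 * ((nf Ω (1 : G) : ℕ) : ℂ) + ((nu Ω (1 : G) : ℕ) : ℂ)) / 2 = _
      rw [nf_one, nu_one, hn]
      rw [show m + 5 - 3 = m + 2 by omega] at hd
      have hd' : (d : ℂ) * 2 = (m + 5) * (m + 2) := by exact_mod_cast hd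
      push_cast
      linear_combination -hd' / 2
    · show (((nf Ω g : ℕ) : ℂ) ^ 2 - 3 * ((nf Ω g : ℕ) : ℂ) + ((nu Ω g : ℕ) : ℂ)) / 2 = _
      push_cast
      rfl

end four

/-! ### the criterion -/

variable {G : Type u} [Group G] [Finite G]

/-- the row from an integer valued character, `C(R) = R` for `|R| = p` -/
theorem rowZ_of {p d N : ℕ} (hp : p.Prime) (hp2 : p ≠ 2) (h1 : p ∣ Nat.card G) (h2 : ¬ p ^ 2 ∣ Nat.card G)
    (hc : ∀ R : Subgroup G, Nat.card R = p → Nat.card (centralizer (R : Set G)) = p ∧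
      Nat.card (normalizer (R : Set G)) = N)
    (h : ∃ χ : IrrCharacter G, charDegree (χ : G → ℂ) = d ∧ IntV χ) (hd1 : d ≠ 1) (hd : ¬ p ∣ d) : RowZ p G := by
  have := Fact.mk hp
  obtain ⟨χ, h3, h4⟩ := h
  refine rowZ_of_self hp2 h1 h2 (fun y hy => ?_) χ (fun he => ?_) (by rw [h3]; exact hd) h4
  · have h5 := (hc (zpowers y) (by rw [Nat.card_zpowers, hy])).1
    rwa [zpowers_eq_closure, centralizer_closure] at h5
  · apply hd1
    rw [← h3, he]
    apply Cfsg.Agent.Blocks.Basic.charDegree_of_eq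
    simp

omit [Finite G] in
theorem card_norm (P : Subgroup G) :
    (centralizer (P : Set G)).relIndex (normalizer (P : Set G)) * Nat.card (centralizer (P : Set G)) =
      Nat.card (normalizer (P : Set G)) := by
  have hle : centralizer (P : Set G) ≤ normalizer (P : Set G) := centralizer_le_normalizer _
  have h3 := Subgroup.index_mul_card ((centralizer (P : Set G)).subgroupOf (normalizer (P : Set G)))
  rwa [Nat.card_congr (Subgroup.subgroupOfEquivOfLe hle).toEquiv] at h3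

theorem frobAt (p : ℕ) (hp2 : p ≠ 2) (h1 : p ∣ Nat.card G) (h2 : ¬ p ^ 2 ∣ Nat.card G) :
    H713.B0R.FrobAt p G := fun _ hM => H657.Frob.frob hM hp2 h1 h2

/-- `p = 7` with the pair `(5, 7)` -/
theorem rowZ_seven_of (h1 : 5 ∣ Nat.card G) (h2 : ¬ 5 ^ 2 ∣ Nat.card G) (h3 : 7 ∣ Nat.card G) (h4 : ¬ 7 ^ 2 ∣ Nat.card G)
    {C N : ℕ} (hc : ∀ R : Subgroup G, Nat.card R = 5 → Nat.card (centralizer (R : Set G)) = C ∧
      Nat.card (normalizer (R : Set G)) = N) (hC : ¬ 7 ∣ C) {C' N' : ℕ}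
    (hc' : ∀ R : Subgroup G, Nat.card R = 7 → Nat.card (centralizer (R : Set G)) = C' ∧
      Nat.card (normalizer (R : Set G)) = N') (hN : N' = 3 * C') (hC0 : 0 < C')
    (hg : ∀ g : G, H602.B0R.Gen0 (orderOf g) 5 7) : RowZ 7 G := by
  have f7 : Fact (Nat.Prime 7) := ⟨by norm_num⟩
  have f5 : Fact (Nat.Prime 5) := ⟨by norm_num⟩
  refine (H713.B0R.rowZ_of_pair (p := 5) (q := 7) (by norm_num) (by norm_num) (by norm_num) (by norm_num) (by norm_num)
    h1 h2 h3 h4 (fun P => ?_) (fun Q => ?_) (fun g hg => ?_) (frobAt 5 (by norm_num) h1 h2) (frobAt 7 (by norm_num) h3 h4)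
    hg).2
  · exact H713.B0R.cond_of_prim P (H852.RatB.card_sylow_of_not_sq h1 h2 P) (by decide)
  · right
    have h5 := H852.RatB.card_sylow_of_not_sq h3 h4 Q
    have h6 := card_norm (Q : Subgroup G)
    rw [(hc' _ h5).1, (hc' _ h5).2, hN] at h6
    have h7 := Nat.eq_of_mul_eq_mul_right hC0 h6
    have h8 : (centralizer (Q : Set G)).relIndex (normalizer (Q : Set G)) = 3 := h7
    rw [h8]
    decide
  · apply hC
    have h5 : orderOf (g ^ 7) = 5 := by
      rw [orderOf_pow, hg]; norm_num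
    have h6 : orderOf (g ^ 5) = 7 := by
      rw [orderOf_pow, hg]; norm_num
    rw [← (hc (zpowers (g ^ 7)) (by rw [Nat.card_zpowers, h5])).1]
    have h7 : g ^ 5 ∈ centralizer ((zpowers (g ^ 7) : Subgroup G) : Set G) := by
      rw [zpowers_eq_closure, centralizer_closure, mem_centralizer_singleton_iff]
      exact (((Commute.refl g).pow_left 5).pow_right 7).eq
    have h8 := orderOf_dvd_natCard (⟨g ^ 5, h7⟩ : centralizer ((zpowers (g ^ 7) : Subgroup G) : Set G))
    rwa [Subgroup.orderOf_mk, h6] at h8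

/-! ### the rows -/

theorem rowZ_m11 {S : Type u} [Group S] (h : Spor.IsoM11 S) : RowZ 11 S := by
  obtain ⟨e⟩ := h
  refine H646.BR.rowZ_congr e ?_
  have := Cfsg.Agent.Cit.Eleven.finite (⟨MulEquiv.refl _⟩ : Cfsg.Spor.IsoM11 Spor.M11)
  have hc : Nat.card Spor.M11 = 7920 := card_M11
  obtain ⟨hinv, h4, hn⟩ := four_m11
  let _ := actOn Spor.M11 ((Spor.squareDodecad : Set GolayPt) \ {some 0}) hinv
  exact rowZ_of (by norm_num) (by norm_num) (by rw [hc]; norm_num) (by rw [hc]; norm_num) (fun R hR => cn11_11 hR)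
    (exists_four_int hn (by norm_num) h4 (d := 10) (by norm_num)) (by norm_num) (by norm_num)

theorem rowZ_m12 {S : Type u} [Group S] (h : Spor.IsoM12 S) : RowZ 11 S := by
  obtain ⟨e⟩ := h
  refine H646.BR.rowZ_congr e ?_
  have hc : Nat.card Spor.M12 = 95040 := card_M12
  have : Finite Spor.M12 := Nat.finite_of_card_ne_zero (by rw [hc]; norm_num)
  obtain ⟨hinv, h4, hn⟩ := four_m12
  let _ := actOn Spor.M12 (Spor.squareDodecad : Set GolayPt) hinv
  exact rowZ_of (by norm_num) (by norm_num) (by rw [hc]; norm_num) (by rw [hc]; norm_num) (fun R hR => cn12_11 hR)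
    (exists_four_int hn (by norm_num) h4 (d := 54) (by norm_num)) (by norm_num) (by norm_num)

theorem rowZ_m22 {S : Type u} [Group S] (h : Spor.IsoM22 S) {p : ℕ} (hp : p = 7 ∨ p = 11) : RowZ p S := by
  obtain ⟨e⟩ := h
  refine H646.BR.rowZ_congr e ?_
  have hc : Nat.card Spor.M22 = 443520 := card_M22
  have : Finite Spor.M22 := Nat.finite_of_card_ne_zero (by rw [hc]; norm_num)
  let _ := actSub XH hXH
  rcases hp with rfl | rfl
  · obtain ⟨χ₁, χ₂, h1, h2, -, h4⟩ := H968.Imc.exists_pair r3_hexads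
      (fun a b => decide (a ≠ 1 ∧ a % 7 ≠ 0) || decide (b ≠ 1 ∧ b % 7 ≠ 0)) (by decide +kernel)
    rw [Bool.or_eq_true, decide_eq_true_eq, decide_eq_true_eq] at h4
    rcases h4 with h4 | h4
    · exact rowZ_of (by norm_num) (by norm_num) (by rw [hc]; norm_num) (by rw [hc]; norm_num) (fun R hR => cn22_7 hR)
        ⟨χ₁, rfl, h1⟩ h4.1 (fun h5 => h4.2 (Nat.mod_eq_zero_of_dvd h5))
    · exact rowZ_of (by norm_num) (by norm_num) (by rw [hc]; norm_num) (by rw [hc]; norm_num) (fun R hR => cn22_7 hR)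
        ⟨χ₂, rfl, h2⟩ h4.1 (fun h5 => h4.2 (Nat.mod_eq_zero_of_dvd h5))
  · obtain ⟨χ₁, χ₂, h1, h2, -, h4⟩ := H968.Imc.exists_pair r3_hexads
      (fun a b => decide (a ≠ 1 ∧ a % 11 ≠ 0) || decide (b ≠ 1 ∧ b % 11 ≠ 0)) (by decide +kernel)
    rw [Bool.or_eq_true, decide_eq_true_eq, decide_eq_true_eq] at h4
    rcases h4 with h4 | h4
    · exact rowZ_of (by norm_num) (by norm_num) (by rw [hc]; norm_num) (by rw [hc]; norm_num) (fun R hR => cn22_11 hR)
        ⟨χ₁, rfl, h1⟩ h4.1 (fun h5 => h4.2 (Nat.mod_eq_zero_of_dvd h5))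
    · exact rowZ_of (by norm_num) (by norm_num) (by rw [hc]; norm_num) (by rw [hc]; norm_num) (fun R hR => cn22_11 hR)
        ⟨χ₂, rfl, h2⟩ h4.1 (fun h5 => h4.2 (Nat.mod_eq_zero_of_dvd h5))

theorem rowZ_m23 {S : Type u} [Group S] (h : Spor.IsoM23 S) {p : ℕ} (hp : p = 7 ∨ p = 11 ∨ p = 23) : RowZ p S := by
  obtain ⟨e⟩ := h
  refine H646.BR.rowZ_congr e ?_
  have hc : Nat.card Spor.M23 = 10200960 := card_M23
  have : Finite Spor.M23 := Nat.finite_of_card_ne_zero (by rw [hc]; norm_num)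
  obtain ⟨hinv, h4, hn⟩ := four_m23
  let _ := actOn Spor.M23 {x : GolayPt | x ≠ none} hinv
  rcases hp with rfl | rfl | rfl
  · exact rowZ_seven_of (by rw [hc]; norm_num) (by rw [hc]; norm_num) (by rw [hc]; norm_num) (by rw [hc]; norm_num)
      (fun R hR => cn23_5 hR) (by norm_num) (fun R hR => cn23_7 hR) (by norm_num) (by norm_num)
      (H494.B0R.M23_5_7 (by rw [hc]; norm_num))
  · exact rowZ_of (by norm_num) (by norm_num) (by rw [hc]; norm_num) (by rw [hc]; norm_num) (fun R hR => cn23_11 hR)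
      (exists_four_int hn (by norm_num) h4 (d := 230) (by norm_num)) (by norm_num) (by norm_num)
  · exact rowZ_of (by norm_num) (by norm_num) (by rw [hc]; norm_num) (by rw [hc]; norm_num) (fun R hR => cn23_23 hR)
      (exists_four_int hn (by norm_num) h4 (d := 22) (by norm_num)) (by norm_num) (by norm_num)

theorem rowZ_m24 {S : Type u} [Group S] (h : Spor.IsoM24 S) {p : ℕ} (hp : p = 7 ∨ p = 11 ∨ p = 23) : RowZ p S := by
  have hcS : Nat.card S = 244823040 := NotCT.Orders.m24 h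
  obtain ⟨e⟩ := h
  have hc : Nat.card M24 = 244823040 := by rw [← hcS]; exact (Nat.card_congr e.toEquiv).symm
  have : Finite M24 := Nat.finite_of_card_ne_zero (by rw [hc]; norm_num)
  refine H646.BR.rowZ_congr e ?_
  obtain ⟨h4, hn⟩ := four_m24
  rcases hp with rfl | rfl | rfl
  · exact rowZ_seven_of (by rw [hc]; norm_num) (by rw [hc]; norm_num) (by rw [hc]; norm_num) (by rw [hc]; norm_num)
      (fun R hR => cn24_5 hR) (by norm_num) (fun R hR => cn24_7 hR) (by norm_num) (by norm_num)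
      (H494.B0R.M24_5_7 (by rw [hc]; norm_num))
  · exact rowZ_of (by norm_num) (by norm_num) (by rw [hc]; norm_num) (by rw [hc]; norm_num) (fun R hR => cn24_11 hR)
      (exists_four_int hn (by norm_num) h4 (d := 23) (by norm_num)) (by norm_num) (by norm_num)
  · exact rowZ_of (by norm_num) (by norm_num) (by rw [hc]; norm_num) (by rw [hc]; norm_num) (fun R hR => cn24_23 hR)
      (exists_four_int hn (by norm_num) h4 (d := 252) (by norm_num)) (by norm_num) (by norm_num)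

end Cfsg.Agent.H256.B0R.Math
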